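import Groth.Agent.Gaga.H523.Cond
import Groth.Agent.Gaga.H445.Core

/-!
# Bijective on holomorphic local rings implies etale, from the comparison of completions only

`etale_of_beta'` : `f` is etale if all maps on holomorphic local rings are bijective; input = S4314 only
(no flatness, no Noetherianity of the holomorphic local rings).
-/

set_option autoImplicit false
open CategoryTheory AlgebraicGeometry Topology TopologicalSpace Opposite IsLocalRing

noncomputable section

namespace Groth.Agent.Gaga.H981.EtaleOfBeta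

open Groth.Agent.Gaga.H523 Groth.Agent.Gaga.H523.Square Groth.Agent.Gaga.H523.CompAlg
open Groth.Agent.Gaga.H445.Core

/-- If `β` is bijective then `α` induces an isomorphism on completions. -/
theorem sameCpl_of_bijective {A₁ A₂ : Type} {B₁ B₂ : Type} [CommRing A₁] [CommRing A₂]
    [CommRing B₁] [CommRing B₂] [IsLocalRing A₁] [IsLocalRing A₂] [IsNoetherianRing A₂]
    [Algebra A₁ A₂] [IsLocalHom (algebraMap A₁ A₂)] {φ₁ : A₁ →+* B₁} {φ₂ : A₂ →+* B₂}
    {β : B₁ →+* B₂} (h₁ : IsComp φ₁) (h₂ : IsComp φ₂)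
    (hsq : β.comp φ₁ = φ₂.comp (algebraMap A₁ A₂)) (hβ : Function.Bijective β) :
    SameCpl A₁ A₂ := by
  have hmax : (maximalIdeal A₁).map (algebraMap A₁ A₂) = maximalIdeal A₂ := by
    rw [unramified_iff h₁ h₂ hsq]
    intro m hm
    exact ⟨m.comap β, Ideal.comap_isMaximal_of_surjective _ hβ.2,
      Ideal.map_comap_of_surjective _ hβ.2 _⟩
  have hn : ∀ n : ℕ, (((maximalIdeal A₁).map φ₁) ^ n).map β = ((maximalIdeal A₂).map φ₂) ^ n := by
    intro n
    rw [Ideal.map_pow, map_map_eq hsq, hmax]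
  refine ⟨hmax, fun n b => ?_, fun n a ha => ?_⟩
  · obtain ⟨c, hc⟩ := hβ.2 (φ₂ b)
    obtain ⟨a, ha⟩ := h₁.surj n c
    refine ⟨a, ?_⟩
    have h3 : φ₂ (algebraMap A₁ A₂ a - b) ∈ ((maximalIdeal A₂).map φ₂) ^ n := by
      have e : φ₂ (algebraMap A₁ A₂ a - b) = β (φ₁ a - c) := by
        rw [map_sub, map_sub, hc]
        congr 1
        exact (RingHom.congr_fun hsq a).symm
      rw [e, ← hn]
      exact Ideal.mem_map_of_mem β ha
    have h4 := h₂.inj n _ h3
    rw [← neg_sub]
    exact neg_mem h4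
  · apply h₁.inj
    have h3 : φ₂ (algebraMap A₁ A₂ a) ∈ ((maximalIdeal A₂).map φ₂) ^ n := by
      rw [← Ideal.map_pow]
      exact Ideal.mem_map_of_mem φ₂ ha
    have e : φ₂ (algebraMap A₁ A₂ a) = β (φ₁ a) := (RingHom.congr_fun hsq a).symm
    rw [e, ← hn] at h3
    obtain ⟨z, hz, hzz⟩ := (Ideal.mem_map_iff_of_surjective β hβ.2).1 h3
    rwa [← hβ.1 hzz]

variable {X Y : Scheme.{0}} [X.Over An.SC] [Y.Over An.SC]
  [LocallyOfFiniteType (X ↘ An.SC)] [LocallyOfFiniteType (Y ↘ An.SC)]

/-- The map on local rings at a complex point is flat if the map on holomorphic local rings is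
bijective. -/
theorem flat_stalkMap (f : X ⟶ Y) [f.IsOver An.SC] (x : An.Pts X)
    (hX : IsComp (phi x)) (hY : IsComp (phi (An.Pts.map f x)))
    (h : Function.Bijective (beta f x)) : (f.stalkMap x.pt).hom.Flat := by
  have := Groth.Agent.An.H871.Surj.isLocallyNoetherian X
  have := Groth.Agent.An.H871.Surj.isLocallyNoetherian Y
  have nX : IsNoetherianRing (X.presheaf.stalk x.pt) := inferInstance
  have nY : IsNoetherianRing (Y.presheaf.stalk (f x.pt)) := inferInstance
  have hloc := Cond.isLocalHom_stalkMap f x.pt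
  let : Algebra (Y.presheaf.stalk (f x.pt)) (X.presheaf.stalk x.pt) :=
    (f.stalkMap x.pt).hom.toAlgebra
  have hl : IsLocalHom (algebraMap (Y.presheaf.stalk (f x.pt)) (X.presheaf.stalk x.pt)) := hloc
  have key : SameCpl (Y.presheaf.stalk (f x.pt)) (X.presheaf.stalk x.pt) :=
    @sameCpl_of_bijective (Y.presheaf.stalk (f x.pt)) (X.presheaf.stalk x.pt)
      ((An.anSpace Y).presheaf.stalk (An.Pts.map f x)) ((An.anSpace X).presheaf.stalk x)
      _ _ _ _ _ _ nX _ hl (phi (An.Pts.map f x)) (phi x) (beta f x) hY hX (square_comp f x) h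
  exact (RingHom.flat_algebraMap_iff).2 key.flat

/-- Bijective on all holomorphic local rings implies etale. -/
theorem etale_of_beta' (f : X ⟶ Y) [f.IsOver An.SC]
    (hX : ∀ x : An.Pts X, IsComp (phi x)) (hY : ∀ y : An.Pts Y, IsComp (phi y))
    (h : ∀ x : An.Pts X, Function.Bijective (beta f x)) : Etale f := by
  rw [SchemePts.etale_iff]
  refine ⟨(SchemePts.flat_iff f).2 fun x => flat_stalkMap f x (hX x) (hY _) (h x), ?_⟩
  rw [Cond.formallyUnramified_iff f hX hY]
  intro x m hm
  exact ⟨m.comap (beta f x), Ideal.comap_isMaximal_of_surjective _ (h x).2,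
    Ideal.map_comap_of_surjective _ (h x).2 _⟩

end Groth.Agent.Gaga.H981.EtaleOfBeta
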