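import Groth.Agent.Gaga.H981.Delta
import Groth.Agent.CohtopA.Flasque
import Groth.Agent.CohtopB.Godement

/-!
# First cohomology by Cech 1-cocycles

For an abelian sheaf `F` on a space `X` and a family `U` of opens:
* `Z1 F U` : Cech 1-cocycles (all ordered pairs);
* `cls F U : Z1 F U →+ HU F 1 (⨆ i, U i)` : the class of a cocycle;
* `cls_eq_zero_iff` : the class vanishes iff the cocycle is a coboundary;
* `exists_cls` : a class vanishing on every `U i` is the class of a cocycle;
* `res_cls` : compatibility with refinements; `cls_map` : naturality in `F`.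
-/

set_option autoImplicit false
universe u v

open CategoryTheory TopologicalSpace Opposite CategoryTheory.Limits Abelian

noncomputable section

namespace Groth.Agent.Gaga.H981.Cech1

open Groth.Agent.CohtopA.Sec Groth.Agent.CohtopA Groth.Agent.CohtopB Delta

variable {X : TopCat.{u}}

section cocycles

variable {ι : Type v} (F : CohTop.Ab X) (U : ι → Opens X)

/-- The cocycle condition. -/
def IsCoc (f : ∀ i j, Γs F (U i ⊓ U j)) : Prop :=
  ∀ i j k, r F (inf_le_left : U i ⊓ U j ⊓ U k ≤ U i ⊓ U j) (f i j) +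
      r F (le_inf (inf_le_left.trans inf_le_right) inf_le_right : U i ⊓ U j ⊓ U k ≤ U j ⊓ U k) (f j k) =
    r F (le_inf (inf_le_left.trans inf_le_left) inf_le_right : U i ⊓ U j ⊓ U k ≤ U i ⊓ U k) (f i k)

/-- Cech 1-cocycles. -/
def Z1 : AddSubgroup (∀ i j, Γs F (U i ⊓ U j)) where
  carrier := {f | IsCoc F U f}
  add_mem' {f g} hf hg i j k := by
    simp only [Pi.add_apply, map_add]
    rw [← hf i j k, ← hg i j k]
    abel
  zero_mem' i j k := by simp
  neg_mem' {f} hf i j k := by
    simp only [Pi.neg_apply, map_neg]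
    rw [← hf i j k]
    abel

/-- The coboundary of a 0-cochain. -/
def d0 (g : ∀ i, Γs F (U i)) (i j : ι) : Γs F (U i ⊓ U j) :=
  r F inf_le_right (g j) - r F inf_le_left (g i)

lemma d0_mem (g : ∀ i, Γs F (U i)) : d0 F U g ∈ Z1 F U := by
  intro i j k
  simp only [d0, map_sub, r_r]
  abel

variable {F U}

/-- The cocycle condition on any open contained in the triple intersection. -/
lemma coc_res {f : ∀ i j, Γs F (U i ⊓ U j)} (hf : f ∈ Z1 F U) (i j k : ι) {W : Opens X}
    (hij : W ≤ U i ⊓ U j) (hjk : W ≤ U j ⊓ U k) (hik : W ≤ U i ⊓ U k) :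
    r F hij (f i j) + r F hjk (f j k) = r F hik (f i k) := by
  have hW : W ≤ U i ⊓ U j ⊓ U k := le_inf hij (hik.trans inf_le_right)
  have h := congrArg (r F hW) (hf i j k)
  rwa [map_add, r_r, r_r, r_r] at h

lemma coc_self {f : ∀ i j, Γs F (U i ⊓ U j)} (hf : f ∈ Z1 F U) (i : ι) : f i i = 0 := by
  have h := coc_res hf i i i le_rfl le_rfl le_rfl
  rw [r_self] at h
  exact left_eq_add.1 h.symm |> fun h => by simpa using h

/-- The image of a cocycle under a morphism of sheaves. -/
def mapZ {F G : CohTop.Ab X} (φ : F ⟶ G) : Z1 F U →+ Z1 G U where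
  toFun f := ⟨fun i j => m φ _ (f.1 i j), fun i j k => by
    rw [← m_r, ← m_r, ← m_r, ← map_add, f.2 i j k]⟩
  map_zero' := by ext; simp
  map_add' f g := by ext; simp

/-- The restriction of a cocycle to a refinement. -/
def resZ {κ : Type*} {V : κ → Opens X} (ρ : κ → ι) (h : ∀ k, V k ≤ U (ρ k)) : Z1 F U →+ Z1 F V where
  toFun f := ⟨fun i j => r F (inf_le_inf (h i) (h j)) (f.1 (ρ i) (ρ j)), fun i j k => by
    rw [r_r, r_r, r_r]
    exact coc_res f.2 _ _ _ _ _ _⟩
  map_zero' := by ext; simp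
  map_add' f g := by ext; simp

end cocycles

/-! ### Cocycles on discrete spaces are coboundaries -/

section discrete

variable {Z : TopCat.{u}} [DiscreteTopology Z] {ι : Type v}

/-- The open point. -/
def pnt (z : Z) : Opens Z := ⟨{z}, isOpen_discrete _⟩

omit [DiscreteTopology Z] in
lemma eq_of_not_mem (P : CohTop.Ab Z) (W : Opens Z) (hW : ∀ x : Z, x ∉ W) (s t : Γs P W) : s = t :=
  Godement.eq_of_isEmpty P W hW s t

/-- Sections on a discrete space are families of sections over points. -/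
lemma exists_sec (P : CohTop.Ab Z) (V : Opens Z) (s : ∀ z : Z, z ∈ V → Γs P (pnt z)) :
    ∃ w : Γs P V, ∀ (z : Z) (hz : z ∈ V), r P (fun x hx => by
      rw [show x = z from hx]; exact hz : pnt z ≤ V) w = s z hz := by
  have hV : V = ⨆ z : V, pnt z.1 := by
    ext x
    simp only [Opens.coe_iSup, Set.mem_iUnion, SetLike.mem_coe]
    constructor
    · intro hx
      exact ⟨⟨x, hx⟩, rfl⟩
    · rintro ⟨z, hz⟩
      rw [show x = z.1 from hz]
      exact z.2
  obtain ⟨w, hw⟩ := glue' (F := P) (U := V) (fun z : V => pnt z.1) hV (fun z => s z.1 z.2) (by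
    intro a b
    by_cases hab : a = b
    · subst hab
      rfl
    · refine eq_of_not_mem P _ (fun x hx => hab ?_) _ _
      apply Subtype.ext
      have h1 : x = a.1 := hx.1
      have h2 : x = b.1 := hx.2
      rw [← h1, ← h2])
  exact ⟨w, fun z hz => hw ⟨z, hz⟩⟩

/-- A 1-cocycle on a discrete space is a coboundary. -/
theorem exists_primitive_of_discrete (P : CohTop.Ab Z) (U : ι → Opens Z)
    {f : ∀ i j, Γs P (U i ⊓ U j)} (hf : f ∈ Z1 P U) : ∃ g : ∀ i, Γs P (U i), d0 P U g = f := by
  classical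
  -- an index for every point of the union
  have hidx : ∀ z : Z, (∃ i, z ∈ U i) → ∃ i, z ∈ U i := fun z h => h
  choose idx hidx using hidx
  have hle : ∀ (z : Z) (V : Opens Z), z ∈ V → pnt z ≤ V := fun z V hz x hx => by
    rw [show x = z from hx]; exact hz
  have hsec : ∀ j, ∃ w : Γs P (U j), ∀ (z : Z) (hz : z ∈ U j),
      r P (hle z _ hz) w = r P (hle z (U (idx z ⟨j, hz⟩) ⊓ U j) ⟨hidx z ⟨j, hz⟩, hz⟩)
        (f (idx z ⟨j, hz⟩) j) := fun j =>
    exists_sec P (U j) (fun z hz => r P (hle z (U (idx z ⟨j, hz⟩) ⊓ U j) ⟨hidx z ⟨j, hz⟩, hz⟩)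
      (f (idx z ⟨j, hz⟩) j))
  choose g hg using hsec
  refine ⟨g, ?_⟩
  funext i j
  refine sep _ _ fun z hz => ⟨pnt z, hle z _ hz, rfl, ?_⟩
  have hz2 : ∃ k, z ∈ U k := ⟨j, hz.2⟩
  have h1 := coc_res hf (idx z hz2) i j (W := pnt z)
    (hle z (U (idx z hz2) ⊓ U i) ⟨hidx z hz2, hz.1⟩) (hle z _ hz)
    (hle z (U (idx z hz2) ⊓ U j) ⟨hidx z hz2, hz.2⟩)
  rw [d0, map_sub, r_r, r_r, hg j z hz.2, hg i z hz.1, ← h1, add_sub_cancel_left]

end discrete

/-! ### The Godement sequence -/

/-- The space `X` with the discrete topology. -/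
def disc (X : TopCat.{u}) : TopCat.{u} := TopCat.discrete.obj ((forget TopCat).obj X)

instance (X : TopCat.{u}) : DiscreteTopology (disc X) :=
  inferInstanceAs (DiscreteTopology (TopCat.discrete.obj ((forget TopCat).obj X)))

/-- The identity from the discrete space. -/
def dmap (X : TopCat.{u}) : disc X ⟶ X := TopCat.adj₁.counit.app X

lemma dmap_surjective (X : TopCat.{u}) : Function.Surjective (dmap X) := fun x => ⟨x, rfl⟩

/-- The Godement sheaf. -/
abbrev God (F : CohTop.Ab X) : CohTop.Ab X := (CohTop.push (dmap X)).obj ((CohTop.pull (dmap X)).obj F)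

/-- The embedding in the Godement sheaf. -/
def godι (F : CohTop.Ab X) : F ⟶ God F := (TopPull.adj (dmap X)).unit.app F

instance (F : CohTop.Ab X) : Mono (godι F) :=
  Godement.mono_unit_of_surjective (dmap X) (dmap_surjective X) F

/-- Functoriality of the Godement sheaf. -/
def godMap {F G : CohTop.Ab X} (φ : F ⟶ G) : God F ⟶ God G :=
  (CohTop.push (dmap X)).map ((CohTop.pull (dmap X)).map φ)

lemma godι_naturality {F G : CohTop.Ab X} (φ : F ⟶ G) : φ ≫ godι G = godι F ≫ godMap φ :=
  (TopPull.adj (dmap X)).unit.naturality φ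

/-- The Godement sequence. -/
abbrev SG (F : CohTop.Ab X) : ShortComplex (CohTop.Ab X) :=
  ShortComplex.mk (godι F) (cokernel.π (godι F)) (cokernel.condition _)

lemma SG_shortExact (F : CohTop.Ab X) : (SG F).ShortExact :=
  { exact := ShortComplex.exact_of_g_is_cokernel _ (cokernelIsCokernel _)
    mono_f := inferInstanceAs (Mono (godι F))
    epi_g := inferInstanceAs (Epi (cokernel.π (godι F))) }

/-- Functoriality of the Godement sequence. -/
def SGmap {F G : CohTop.Ab X} (φ : F ⟶ G) : SG F ⟶ SG G where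
  τ₁ := φ
  τ₂ := godMap φ
  τ₃ := cokernel.map _ _ φ (godMap φ) (godι_naturality φ).symm
  comm₁₂ := godι_naturality φ
  comm₂₃ := (cokernel.π_desc _ _ _).symm

lemma subsingleton_HU_God (F : CohTop.Ab X) (U : Opens X) :
    Subsingleton (CohTop.HU (God F) 1 U) := by
  have : TopCat.Sheaf.IsFlasque (God F) := Godement.isFlasque_push_of_discrete _ _
  exact Flasque.subsingleton_HU_succ (God F) U 0

/-- Cocycles become coboundaries in the Godement sheaf. -/
lemma exists_primitive (F : CohTop.Ab X) {ι : Type v} (U : ι → Opens X)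
    {f : ∀ i j, Γs (God F) (U i ⊓ U j)} (hf : f ∈ Z1 (God F) U) :
    ∃ g : ∀ i, Γs (God F) (U i), d0 (God F) U g = f :=
  exists_primitive_of_discrete ((CohTop.pull (dmap X)).obj F)
    (fun i => (Opens.map (dmap X)).obj (U i)) (f := f) hf

end Groth.Agent.Gaga.H981.Cech1
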