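import Groth.Agent.Gaga.H981.Cech1

/-!
# The class of a Cech 1-cocycle

For an abelian sheaf `F` on a space `X` and a family `U` of opens:
* `cls F U : Z1 F U →+ HU F 1 (⨆ i, U i)` : the class of a cocycle;
* `cls_eq_zero_iff` : the class vanishes iff the cocycle is a coboundary;
* `exists_cls` : a class vanishing on every `U i` is the class of a cocycle;
* `res_cls` : compatibility with refinements; `cls_map` : naturality in `F`.
-/

set_option autoImplicit false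
universe u v w

open CategoryTheory TopologicalSpace Opposite CategoryTheory.Limits Abelian

noncomputable section

namespace Groth.Agent.Gaga.H981.CechCls

open Groth.Agent.CohtopA.Sec Groth.Agent.CohtopA Groth.Agent.CohtopB Delta Cech1

variable {X : TopCat.{u}} {ι : Type v}

section rep

variable {S : ShortComplex (CohTop.Ab X)} (U : ι → Opens X)

/-- `q` represents the cocycle `f`: there are local lifts `g i` of `q` with `f i j = g j - g i`. -/
def Rep (f : ∀ i j, Γs S.X₁ (U i ⊓ U j)) (q : Γs S.X₃ (⨆ i, U i)) : Prop :=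
  ∃ g : ∀ i, Γs S.X₂ (U i), (∀ i j, m S.f _ (f i j) = d0 S.X₂ U g i j) ∧
    ∀ i, m S.g _ (g i) = r S.X₃ (le_iSup U i) q

variable {U}

lemma Rep.add {f f' : ∀ i j, Γs S.X₁ (U i ⊓ U j)} {q q' : Γs S.X₃ (⨆ i, U i)} (h : Rep U f q)
    (h' : Rep U f' q') : Rep U (f + f') (q + q') := by
  obtain ⟨g, h1, h2⟩ := h
  obtain ⟨g', h1', h2'⟩ := h'
  refine ⟨g + g', fun i j => ?_, fun i => ?_⟩
  · simp only [Pi.add_apply, map_add, h1, h1', d0]
    abel
  · simp only [Pi.add_apply, map_add, h2, h2']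

lemma Rep.sub {f f' : ∀ i j, Γs S.X₁ (U i ⊓ U j)} {q q' : Γs S.X₃ (⨆ i, U i)} (h : Rep U f q)
    (h' : Rep U f' q') : Rep U (f - f') (q - q') := by
  obtain ⟨g, h1, h2⟩ := h
  obtain ⟨g', h1', h2'⟩ := h'
  refine ⟨g - g', fun i j => ?_, fun i => ?_⟩
  · simp only [Pi.sub_apply, map_sub, h1, h1', d0]
    abel
  · simp only [Pi.sub_apply, map_sub, h2, h2']

variable (hS : S.ShortExact)
include hS

lemma Rep.δ_eq_zero_iff {f : ∀ i j, Γs S.X₁ (U i ⊓ U j)} {q : Γs S.X₃ (⨆ i, U i)}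
    (h : Rep U f q) : δ hS _ q = 0 ↔ ∃ c : ∀ i, Γs S.X₁ (U i), d0 S.X₁ U c = f := by
  have := hS.mono_f
  obtain ⟨g, h1, h2⟩ := h
  rw [Delta.δ_eq_zero_iff]
  constructor
  · rintro ⟨t, rfl⟩
    have h3 : ∀ i, ∃ c : Γs S.X₁ (U i), m S.f _ c = g i - r S.X₂ (le_iSup U i) t := fun i =>
      exact_lift hS _ (by rw [map_sub, h2, m_r, sub_self])
    choose c hc using h3
    refine ⟨c, ?_⟩
    funext i j
    apply m_injective S.f
    rw [h1]
    simp only [d0, map_sub, m_r, hc, r_r]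
    abel
  · rintro ⟨c, hc⟩
    have h3 : ∀ i j, r S.X₂ (inf_le_left : U i ⊓ U j ≤ U i) (g i - m S.f _ (c i)) =
        r S.X₂ (inf_le_right : U i ⊓ U j ≤ U j) (g j - m S.f _ (c j)) := by
      intro i j
      have h4 := h1 i j
      rw [← hc] at h4
      simp only [d0, map_sub, m_r] at h4 ⊢
      have h5 : r S.X₂ (inf_le_right : U i ⊓ U j ≤ U j) (g j) =
          r S.X₂ (inf_le_left : U i ⊓ U j ≤ U i) (g i) +
            (r S.X₂ (inf_le_right : U i ⊓ U j ≤ U j) (m S.f _ (c j)) -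
              r S.X₂ (inf_le_left : U i ⊓ U j ≤ U i) (m S.f _ (c i))) := by
        rw [h4]; abel
      rw [h5]
      abel
    obtain ⟨t, ht⟩ := glue U _ h3
    refine ⟨t, ?_⟩
    refine sep _ _ fun x hx => ?_
    obtain ⟨i, hi⟩ := Opens.mem_iSup.1 hx
    refine ⟨U i, le_iSup U i, hi, ?_⟩
    rw [← m_r, ht, map_sub, m_f_g, sub_zero, h2]

lemma Rep.unique {f : ∀ i j, Γs S.X₁ (U i ⊓ U j)} {q q' : Γs S.X₃ (⨆ i, U i)}
    (h : Rep U f q) (h' : Rep U f q') : δ hS _ q = δ hS _ q' := by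
  have h1 := (h.sub h').δ_eq_zero_iff hS
  rw [sub_self, map_sub, sub_eq_zero] at h1
  refine h1.2 ⟨0, ?_⟩
  funext i j
  simp [d0]

/-- A section of `S.X₃` whose class vanishes on every `U i` represents a cocycle. -/
lemma exists_rep (q : Γs S.X₃ (⨆ i, U i))
    (h : ∀ i, δ hS (U i) (r S.X₃ (le_iSup U i) q) = 0) :
    ∃ f ∈ Z1 S.X₁ U, Rep U f q := by
  have := hS.mono_f
  have h1 : ∀ i, ∃ g : Γs S.X₂ (U i), m S.g _ g = r S.X₃ (le_iSup U i) q := fun i =>
    (Delta.δ_eq_zero_iff hS _).1 (h i)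
  choose g hg using h1
  have h2 : ∀ i j, ∃ f : Γs S.X₁ (U i ⊓ U j), m S.f _ f = d0 S.X₂ U g i j := fun i j =>
    exact_lift hS _ (by simp only [d0, map_sub, m_r, hg, r_r, sub_self])
  choose f hf using h2
  refine ⟨f, fun i j k => ?_, g, hf, hg⟩
  apply m_injective S.f
  simp only [map_add, m_r, hf]
  simp only [d0, map_sub, r_r]
  abel

end rep

section God

variable (F : CohTop.Ab X) (U : ι → Opens X)

lemma exists_rep_of_mem {f : ∀ i j, Γs F (U i ⊓ U j)} (hf : f ∈ Z1 F U) :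
    ∃ q : Γs (SG F).X₃ (⨆ i, U i), Rep (S := SG F) U f q := by
  obtain ⟨g, hg⟩ := exists_primitive F U (f := fun i j => m (godι F) _ (f i j))
    (mapZ (godι F) ⟨f, hf⟩).2
  have h1 : ∀ i j, m (SG F).f _ (f i j) = d0 (God F) U g i j := fun i j =>
    (congrFun (congrFun hg i) j).symm
  have h2 : ∀ i j, r (SG F).X₃ (inf_le_left : U i ⊓ U j ≤ U i) (m (SG F).g _ (g i)) =
      r (SG F).X₃ (inf_le_right : U i ⊓ U j ≤ U j) (m (SG F).g _ (g j)) := by
    intro i j
    have h3 := congrArg (m (SG F).g _) (h1 i j)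
    rw [m_f_g] at h3
    have h4 : m (SG F).g _ (d0 (God F) U g i j) =
        r (SG F).X₃ (inf_le_right : U i ⊓ U j ≤ U j) (m (SG F).g _ (g j)) -
          r (SG F).X₃ (inf_le_left : U i ⊓ U j ≤ U i) (m (SG F).g _ (g i)) := by
      rw [← m_r, ← m_r, ← map_sub]
      rfl
    rw [h4] at h3
    exact (sub_eq_zero.1 h3.symm).symm
  obtain ⟨q, hq⟩ := glue U _ h2
  exact ⟨q, g, h1, fun i => (hq i).symm⟩

/-- The class of a cocycle. -/
def cls : Z1 F U →+ CohTop.HU F 1 (⨆ i, U i) where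
  toFun f := δ (SG_shortExact F) (⨆ i, U i) (exists_rep_of_mem F U f.2).choose
  map_zero' := by
    refine ((exists_rep_of_mem F U (0 : Z1 F U).2).choose_spec.δ_eq_zero_iff (SG_shortExact F)).2
      ⟨0, ?_⟩
    funext i j
    simp only [d0, Pi.zero_apply, map_zero, sub_zero]
    rfl
  map_add' f g := by
    refine Eq.trans ?_ (map_add (δ (SG_shortExact F) (⨆ i, U i)) _ _)
    exact Rep.unique (SG_shortExact F) (exists_rep_of_mem F U (f + g).2).choose_spec
      ((exists_rep_of_mem F U f.2).choose_spec.add (exists_rep_of_mem F U g.2).choose_spec)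

variable {F U}

lemma cls_eq_of_rep (f : Z1 F U) {q : Γs (SG F).X₃ (⨆ i, U i)} (h : Rep (S := SG F) U f.1 q) :
    cls F U f = δ (SG_shortExact F) (⨆ i, U i) q :=
  Rep.unique (SG_shortExact F) (exists_rep_of_mem F U f.2).choose_spec h

/-- The class of a cocycle vanishes iff it is a coboundary. -/
theorem cls_eq_zero_iff (f : Z1 F U) :
    cls F U f = 0 ↔ ∃ c : ∀ i, Γs F (U i), d0 F U c = f.1 :=
  (exists_rep_of_mem F U f.2).choose_spec.δ_eq_zero_iff (SG_shortExact F)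

/-- A class vanishing on every `U i` is the class of a cocycle. -/
theorem exists_cls (ξ : CohTop.HU F 1 (⨆ i, U i))
    (h : ∀ i, CohTop.res F 1 (le_iSup U i) ξ = 0) : ∃ f : Z1 F U, cls F U f = ξ := by
  obtain ⟨q, rfl⟩ := exists_δ (SG_shortExact F) (subsingleton_HU_God F _) ξ
  obtain ⟨f, hf, hq⟩ := exists_rep (SG_shortExact F) q (fun i => by
    rw [← res_δ]
    exact h i)
  exact ⟨⟨f, hf⟩, cls_eq_of_rep ⟨f, hf⟩ hq⟩

/-- Compatibility with refinements. -/
theorem res_cls {κ : Type w} {V : κ → Opens X} (ρ : κ → ι) (h : ∀ k, V k ≤ U (ρ k))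
    (hV : ⨆ k, V k ≤ ⨆ i, U i) (f : Z1 F U) :
    CohTop.res F 1 hV (cls F U f) = cls F V (resZ ρ h f) := by
  obtain ⟨q, g, h1, h2⟩ := exists_rep_of_mem F U f.2
  rw [cls_eq_of_rep f ⟨g, h1, h2⟩]
  refine (res_δ (SG_shortExact F) hV q).trans ?_
  refine (cls_eq_of_rep _ ⟨fun k => r (God F) (h k) (g (ρ k)), fun i j => ?_, fun k => ?_⟩).symm
  · have h3 := congrArg (r (God F) (inf_le_inf (h i) (h j))) (h1 (ρ i) (ρ j))
    have h4 : m (SG F).f _ ((resZ ρ h f).1 i j) =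
        r (God F) (inf_le_inf (h i) (h j)) (m (SG F).f _ (f.1 (ρ i) (ρ j))) := m_r _ _ _
    rw [h4]
    refine h3.trans ?_
    simp only [d0, map_sub]
    erw [r_r, r_r, r_r, r_r]
  · rw [r_r]
    have h3 := congrArg (r (SG F).X₃ (h k)) (h2 (ρ k))
    rw [r_r, ← m_r] at h3
    exact h3

/-- Naturality in the sheaf. -/
theorem cls_map {G : CohTop.Ab X} (φ : F ⟶ G) (f : Z1 F U) :
    CohTop.HUmap φ 1 (⨆ i, U i) (cls F U f) = cls G U (mapZ φ f) := by
  obtain ⟨q, g, h1, h2⟩ := exists_rep_of_mem F U f.2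
  rw [cls_eq_of_rep f ⟨g, h1, h2⟩]
  refine (δ_map (SG_shortExact F) (SG_shortExact G) (SGmap φ) q).trans ?_
  refine (cls_eq_of_rep _ ⟨fun i => m (SGmap φ).τ₂ _ (g i), fun i j => ?_, fun k => ?_⟩).symm
  · have h3 := congrArg (m (SGmap φ).τ₂ _) (h1 i j)
    rw [← m_comp, ← (SGmap φ).comm₁₂, m_comp] at h3
    refine h3.trans ?_
    simp only [d0, map_sub, m_r]
  · have h3 := congrArg (m (SGmap φ).τ₃ _) (h2 k)
    rw [← m_comp, ← (SGmap φ).comm₂₃, m_comp, m_r] at h3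
    exact h3

end God

end Groth.Agent.Gaga.H981.CechCls
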