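import Groth.Agent.Gaga.H981.CechCls
import Groth.Agent.CohtopA.MVElem

/-!
# Classes of Cech 1-cocycles of a cover of the whole space, in `H^1(X, F)`
-/

set_option autoImplicit false
universe u v w

open CategoryTheory TopologicalSpace Opposite CategoryTheory.Limits Abelian

noncomputable section

namespace Groth.Agent.Gaga.H981.CechTop

open Groth.Agent.CohtopA.Sec Groth.Agent.CohtopA Delta Cech1 CechCls

variable {X : TopCat.{u}} {ι : Type v} {F : CohTop.Ab X} {U : ι → Opens X}

/-- Restriction between equal opens is injective. -/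
lemma res_injective_of_eq (n : ℕ) {A B : Opens X} (h : B ≤ A) (h' : A ≤ B) :
    Function.Injective (CohTop.res F n h) := by
  intro x y hxy
  have := congrArg (CohTop.res F n h') hxy
  rwa [MVElem.res_res, MVElem.res_res, MVElem.res_self, MVElem.res_self] at this

variable (F) in
/-- The class of a cocycle of a cover of the whole space. -/
def clsTop (hU : ⨆ i, U i = ⊤) : Z1 F U →+ CohTop.H F 1 :=
  ((Flasque.HTopEquiv F 1).symm.toAddMonoidHom.comp (CohTop.res F 1 hU.ge)).comp (cls F U)

lemma clsTop_apply (hU : ⨆ i, U i = ⊤) (f : Z1 F U) :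
    Flasque.HTopEquiv F 1 (clsTop F hU f) = CohTop.res F 1 hU.ge (cls F U f) :=
  (Flasque.HTopEquiv F 1).apply_symm_apply _

/-- The class of a cocycle vanishes iff it is a coboundary. -/
theorem clsTop_eq_zero_iff (hU : ⨆ i, U i = ⊤) (f : Z1 F U) :
    clsTop F hU f = 0 ↔ ∃ c : ∀ i, Γs F (U i), d0 F U c = f.1 := by
  rw [← cls_eq_zero_iff, ← (Flasque.HTopEquiv F 1).map_eq_zero_iff, clsTop_apply]
  constructor
  · intro h
    apply res_injective_of_eq 1 hU.ge hU.le
    rw [h, map_zero]
  · intro h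
    rw [h, map_zero]

/-- A class vanishing on every `U i` is the class of a cocycle. -/
theorem exists_clsTop (hU : ⨆ i, U i = ⊤) (ξ : CohTop.H F 1)
    (h : ∀ i, CohTop.res F 1 (le_top : U i ≤ ⊤) (Flasque.HTopEquiv F 1 ξ) = 0) :
    ∃ f : Z1 F U, clsTop F hU f = ξ := by
  obtain ⟨f, hf⟩ := exists_cls (CohTop.res F 1 hU.le (Flasque.HTopEquiv F 1 ξ)) (fun i => by
    rw [MVElem.res_res]
    exact h i)
  refine ⟨f, (Flasque.HTopEquiv F 1).injective ?_⟩
  rw [clsTop_apply, hf, MVElem.res_res, MVElem.res_self]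

/-- If `H^1(U i, F) = 0` for all `i`, every class is the class of a cocycle. -/
theorem clsTop_surjective (hU : ⨆ i, U i = ⊤) (h : ∀ i, Subsingleton (CohTop.HU F 1 (U i))) :
    Function.Surjective (clsTop F hU) :=
  fun ξ => exists_clsTop hU ξ (fun _ => Subsingleton.elim _ _)

/-- Compatibility with refinements. -/
theorem clsTop_resZ {κ : Type w} {V : κ → Opens X} (ρ : κ → ι) (h : ∀ k, V k ≤ U (ρ k))
    (hU : ⨆ i, U i = ⊤) (hV : ⨆ k, V k = ⊤) (f : Z1 F U) :
    clsTop F hV (resZ ρ h f) = clsTop F hU f := by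
  apply (Flasque.HTopEquiv F 1).injective
  rw [clsTop_apply, clsTop_apply, ← res_cls ρ h (by rw [hU]; exact le_top), MVElem.res_res]

/-- Naturality in the sheaf. -/
theorem map_clsTop {G : CohTop.Ab X} (φ : F ⟶ G) (hU : ⨆ i, U i = ⊤) (f : Z1 F U) :
    Sheaf.H.map φ 1 (clsTop F hU f) = clsTop G hU (mapZ φ f) := by
  apply (Flasque.HTopEquiv G 1).injective
  rw [clsTop_apply, ← cls_map]
  refine (HTop.HAddEquiv_map _ (isTerminalTop : IsTerminal (⊤ : Opens X)) 1 φ _).trans ?_
  have h1 : ((Sheaf.cohomologyPresheafFunctor (Opens.grothendieckTopology X) 1).map φ).app (op ⊤)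
      (Flasque.HTopEquiv F 1 (clsTop F hU f)) =
      CohTop.HUmap φ 1 ⊤ (CohTop.res F 1 hU.ge (cls F U f)) := by
    rw [clsTop_apply]
  refine h1.trans ?_
  have h2 := ((Sheaf.cohomologyPresheafFunctor (Opens.grothendieckTopology X) 1).map φ).naturality
    (homOfLE hU.ge).op
  exact ConcreteCategory.congr_hom h2 (cls F U f)

end Groth.Agent.Gaga.H981.CechTop
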