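import Groth.Agent.CohtopA.Sec
import Groth.Agent.CohtopA.FreeAb
import Mathlib.Algebra.Homology.DerivedCategory.Ext.ExactSequences

/-!
# The connecting map `Γ(U, S.X₃) → H^1(U, S.X₁)` of a short exact sequence of abelian sheaves
-/

set_option autoImplicit false
universe u v w

open CategoryTheory TopologicalSpace Opposite CategoryTheory.Limits Abelian

noncomputable section

namespace Groth.Agent.Gaga.H981.Delta

section Abstract

variable {C : Type u} [Category.{v} C] [Abelian C] [HasExt.{w} C] {S : ShortComplex C}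
  (hS : S.ShortExact)

/-- The connecting map, abstract form. -/
def dA (G : C) : (G ⟶ S.X₃) →+ Ext G S.X₁ 1 where
  toFun f := (Ext.mk₀ f).comp hS.extClass (zero_add 1)
  map_zero' := by rw [Ext.mk₀_zero, Ext.zero_comp]
  map_add' a b := by rw [Ext.mk₀_add, Ext.add_comp]

lemma dA_apply {G : C} (f : G ⟶ S.X₃) :
    dA hS G f = (Ext.mk₀ f).comp hS.extClass (zero_add 1) := rfl

lemma comp_dA {G G' : C} (a : G' ⟶ G) (f : G ⟶ S.X₃) :
    (Ext.mk₀ a).comp (dA hS G f) (zero_add 1) = dA hS G' (a ≫ f) := by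
  rw [dA_apply, dA_apply, Ext.mk₀_comp_mk₀_assoc]

lemma dA_eq_zero_iff {G : C} (f : G ⟶ S.X₃) : dA hS G f = 0 ↔ ∃ g : G ⟶ S.X₂, g ≫ S.g = f := by
  constructor
  · intro h
    obtain ⟨y, hy⟩ := Ext.covariant_sequence_exact₃ _ hS (Ext.mk₀ f) rfl h
    obtain ⟨g, rfl⟩ := (Ext.mk₀_bijective _ _).2 y
    rw [Ext.mk₀_comp_mk₀] at hy
    exact ⟨g, (Ext.mk₀_bijective _ _).1 hy⟩
  · rintro ⟨g, rfl⟩
    rw [dA_apply, ← Ext.mk₀_comp_mk₀, Ext.comp_assoc _ _ _ (zero_add 0) (zero_add 1) (by omega),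
      hS.comp_extClass, Ext.comp_zero]

lemma exists_dA {G : C} (h : ∀ x : Ext G S.X₂ 1, x = 0) (ξ : Ext G S.X₁ 1) :
    ∃ f, dA hS G f = ξ := by
  obtain ⟨y, hy⟩ := Ext.covariant_sequence_exact₁ _ hS ξ (h _) (zero_add 1)
  obtain ⟨g, rfl⟩ := (Ext.mk₀_bijective _ _).2 y
  exact ⟨g, hy⟩

lemma dA_comp {S' : ShortComplex C} (hS' : S'.ShortExact) (φ : S ⟶ S') {G : C} (f : G ⟶ S.X₃) :
    (dA hS G f).comp (Ext.mk₀ φ.τ₁) (add_zero 1) = dA hS' G (f ≫ φ.τ₃) := by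
  rw [dA_apply, dA_apply, ← Ext.mk₀_comp_mk₀,
    Ext.comp_assoc _ _ _ (zero_add 1) (add_zero 1) (by omega),
    Ext.comp_assoc _ _ _ (zero_add 0) (zero_add 1) (by omega),
    ShortComplex.ShortExact.extClass_naturality hS hS' φ]

end Abstract

open Groth.Agent.CohtopA.Sec Groth.Agent.CohtopA

variable {X : TopCat.{u}}

/-- Sections are morphisms from the free sheaf. -/
def hm (F : CohTop.Ab X) (U : Opens X) :
    (FreeAb.freeAb (Opens.grothendieckTopology X) U ⟶ F) ≃+ Γs F U :=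
  AddEquiv.ofBijective (FreeAb.homEv U F) (FreeAb.homEv_bijective U F)

lemma hm_comp {F G : CohTop.Ab X} {U : Opens X}
    (f : FreeAb.freeAb (Opens.grothendieckTopology X) U ⟶ F) (φ : F ⟶ G) :
    hm G U (f ≫ φ) = m φ U (hm F U f) := rfl

lemma hm_symm_m {F G : CohTop.Ab X} {U : Opens X} (s : Γs F U) (φ : F ⟶ G) :
    (hm G U).symm (m φ U s) = (hm F U).symm s ≫ φ := by
  rw [AddEquiv.symm_apply_eq, hm_comp, AddEquiv.apply_symm_apply]

lemma hm_res {F : CohTop.Ab X} {U V : Opens X} (h : V ≤ U)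
    (f : FreeAb.freeAb (Opens.grothendieckTopology X) U ⟶ F) :
    hm F V (FreeAb.freeAbMap (Opens.grothendieckTopology X) (homOfLE h) ≫ f) = r F h (hm F U f) :=
  FreeAb.homEv_freeAbMap (homOfLE h) f

lemma hm_symm_r {F : CohTop.Ab X} {U V : Opens X} (h : V ≤ U) (s : Γs F U) :
    (hm F V).symm (r F h s) =
      FreeAb.freeAbMap (Opens.grothendieckTopology X) (homOfLE h) ≫ (hm F U).symm s := by
  rw [AddEquiv.symm_apply_eq, hm_res, AddEquiv.apply_symm_apply]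

variable {S : ShortComplex (CohTop.Ab X)} (hS : S.ShortExact)

/-- The connecting map. -/
def δ (U : Opens X) : Γs S.X₃ U →+ CohTop.HU S.X₁ 1 U :=
  (dA hS (FreeAb.freeAb (Opens.grothendieckTopology X) U)).comp (hm S.X₃ U).symm.toAddMonoidHom

lemma δ_apply (U : Opens X) (s : Γs S.X₃ U) :
    δ hS U s = dA hS (FreeAb.freeAb (Opens.grothendieckTopology X) U) ((hm S.X₃ U).symm s) := rfl

lemma res_δ {U V : Opens X} (h : V ≤ U) (s : Γs S.X₃ U) :
    CohTop.res S.X₁ 1 h (δ hS U s) = δ hS V (r S.X₃ h s) := by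
  rw [δ_apply, δ_apply, hm_symm_r]
  exact comp_dA hS _ _

lemma δ_eq_zero_iff {U : Opens X} (s : Γs S.X₃ U) :
    δ hS U s = 0 ↔ ∃ t : Γs S.X₂ U, m S.g U t = s := by
  refine (dA_eq_zero_iff hS ((hm S.X₃ U).symm s)).trans ⟨?_, ?_⟩
  · rintro ⟨g, hg⟩
    refine ⟨hm S.X₂ U g, ?_⟩
    rw [← hm_comp, hg, AddEquiv.apply_symm_apply]
  · rintro ⟨t, rfl⟩
    exact ⟨(hm S.X₂ U).symm t, (hm_symm_m t S.g).symm⟩

lemma exists_δ {U : Opens X} (h : Subsingleton (CohTop.HU S.X₂ 1 U)) (ξ : CohTop.HU S.X₁ 1 U) :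
    ∃ s, δ hS U s = ξ := by
  obtain ⟨g, hg⟩ := exists_dA hS (fun x => h.elim x 0) ξ
  refine ⟨hm S.X₃ U g, ?_⟩
  rw [δ_apply, AddEquiv.symm_apply_apply]
  exact hg

lemma δ_map {S' : ShortComplex (CohTop.Ab X)} (hS' : S'.ShortExact) (φ : S ⟶ S') {U : Opens X}
    (s : Γs S.X₃ U) :
    CohTop.HUmap φ.τ₁ 1 U (δ hS U s) = δ hS' U (m φ.τ₃ U s) := by
  rw [δ_apply, δ_apply, hm_symm_m]
  exact dA_comp hS hS' φ _

end Groth.Agent.Gaga.H981.Delta
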