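import Groth.Agent.Gaga.H981.HMod

/-!
# The first cohomology of an `O_{X^an}`-module as a cokernel on global sections
-/

set_option autoImplicit false

open AlgebraicGeometry CategoryTheory CategoryTheory.Limits TopologicalSpace Opposite Topology Abelian

noncomputable section

namespace Groth.Agent.Gaga.H981.HCoker

open Groth.Agent.Gaga.H975.ModSec Groth.Agent.Gaga.H335.Chart Groth.Agent.Gaga.H981.HMod

variable {X : Scheme.{0}} [X.Over An.SC]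

section Coker

variable {S : ShortComplex (An.AnMod X)} (hS : S.ShortExact)

/-- The connecting map from global sections. -/
def δ₀ : Sec S.X₃ ⊤ →ₗ[ℂ] An.AnMod.H S.X₁ 1 := (δ hS 0).comp (H0 S.X₃).symm.toLinearMap

lemma δ₀_apply (s : Sec S.X₃ ⊤) : δ₀ hS s = δ hS 0 ((H0 S.X₃).symm s) := rfl

lemma δ₀_eq_zero_iff (s : Sec S.X₃ ⊤) : δ₀ hS s = 0 ↔ ∃ t : Sec S.X₂ ⊤, app S.g ⊤ t = s := by
  rw [δ₀_apply, exact₃]
  constructor
  · rintro ⟨e, he⟩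
    refine ⟨H0 S.X₂ e, ?_⟩
    rw [← H0_nat, he, LinearEquiv.apply_symm_apply]
  · rintro ⟨t, rfl⟩
    exact ⟨(H0 S.X₂).symm t, H0_symm_nat S.g t⟩

lemma ker_δ₀ : LinearMap.ker (δ₀ hS) = LinearMap.range (appL S.g ⊤) := by
  ext s
  rw [LinearMap.mem_ker, δ₀_eq_zero_iff]
  rfl

lemma exists_δ₀ (e : An.AnMod.H S.X₁ 1) (he : Hmap S.f 1 e = 0) : ∃ s, δ₀ hS s = e := by
  obtain ⟨e', rfl⟩ := (exact₁ hS 0 e).1 he
  refine ⟨H0 S.X₃ e', ?_⟩
  rw [δ₀_apply, LinearEquiv.symm_apply_apply]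

lemma Hmap_f_δ₀ (s : Sec S.X₃ ⊤) : Hmap S.f 1 (δ₀ hS s) = 0 := (exact₁ hS 0 _).2 ⟨_, rfl⟩

lemma δ₀_surjective (h : Subsingleton (An.AnMod.H S.X₂ 1)) : Function.Surjective (δ₀ hS) :=
  fun e => exists_δ₀ hS e (h.elim _ _)

/-- If `H^1(S.X₂) = 0`, then `H^1(S.X₁)` is the cokernel of `Γ(S.X₂) → Γ(S.X₃)`. -/
def cokerEquiv (h : Subsingleton (An.AnMod.H S.X₂ 1)) :
    (Sec S.X₃ ⊤ ⧸ LinearMap.range (appL S.g ⊤)) ≃ₗ[ℂ] An.AnMod.H S.X₁ 1 :=
  (Submodule.quotEquivOfEq _ _ (ker_δ₀ hS).symm).trans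
    ((δ₀ hS).quotKerEquivOfSurjective (δ₀_surjective hS h))

include hS in
/-- Short exact sequences of global sections and `H^1 = 0`. -/
lemma surjective_of_subsingleton (h : Subsingleton (An.AnMod.H S.X₁ 1)) :
    Function.Surjective (app S.g ⊤) := fun s =>
  (δ₀_eq_zero_iff hS s).1 (h.elim _ _)

end Coker

end Groth.Agent.Gaga.H981.HCoker
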